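import Groth.Agent.Lib.KInjLocal9.Reflective
import Groth.Agent.Lib.CohFound.ModulesInst
import Groth.Prelude.Def_DerComp

/-! Derived completion exists for every sheaf of ideals on a small ringed site. -/

set_option autoImplicit false
set_option linter.style.haveILetI false
set_option backward.isDefEq.respectTransparency false

universe u

open CategoryTheory CategoryTheory.Limits Opposite

attribute [local instance] HasDerivedCategory.standard

namespace Groth.Agent.KInjLocal9

variable {C : Type u} [SmallCategory C] {J : GrothendieckTopology C} (O : Sheaf J CommRingCat.{u})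
  (I : DerComp.IdealSh O)

/-- The family of objects testing derived completeness. -/
noncomputable def testObj (i : Σ U : C, { f : O.obj.obj (op U) // f ∈ I.ideal U }) :
    DerivedCategory (ModSite.Mod O) :=
  SiteCmp.inD O ((ModSite.extZero O i.1).obj (DerComp.awayOver O i.1 i.2.1))

theorem isDerComp_eq_orth : DerComp.IsDerComp O I = Orth (testObj O I) := by
  funext K
  refine propext ⟨fun h i n => ?_, fun h U f hf n => ?_⟩
  · haveI := h i.1 i.2.1 i.2.2 (-n)
    exact (Equiv.subsingleton_congr
      ((shiftEquiv' (DerivedCategory (ModSite.Mod O)) n (-n) (add_neg_cancel n)).toAdjunction.homEquiv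
        (testObj O I i) K)).2 this
  · haveI := h ⟨U, f, hf⟩ (-n)
    exact (Equiv.subsingleton_congr
      ((shiftEquiv' (DerivedCategory (ModSite.Mod O)) (-n) n (neg_add_cancel n)).toAdjunction.homEquiv
        (testObj O I ⟨U, f, hf⟩) K)).1 this

theorem hasDerCompletion : DerComp.HasDerCompletion O I := by
  haveI : IsGrothendieckAbelian.{u} (ModSite.Mod O) :=
    CohFound.isGrothendieckAbelian_sheafOfModules (ModSite.ringSh O)
  change (DerComp.IsDerComp O I).ι.IsRightAdjoint
  rw [isDerComp_eq_orth]
  exact isRightAdjoint_ι (testObj O I)

end Groth.Agent.KInjLocal9
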