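import Groth.Agent.Lib.KInj.Resolution
import Groth.Agent.Lib.KInj.Derived
import Mathlib.Algebra.Homology.HomotopyCategory.MappingCocone
import Mathlib.Algebra.Homology.DerivedCategory.ShortExact

/-!
Homotopy extension along monomorphisms, phrased as a lifting property against the contractible
cocone of the identity.
-/

set_option autoImplicit false
set_option linter.unusedSectionVars false
set_option linter.style.haveILetI false
set_option backward.isDefEq.respectTransparency false

universe w v u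

open CategoryTheory CategoryTheory.Limits CochainComplex CochainComplex.HomComplex

namespace Groth.Agent.KInjLocal9

open KInjLib

variable {A : Type u} [Category.{v} A] [Abelian A] (L : CochainComplex A ℤ)

/-- The projection of the contractible cocone of `𝟙 L`. -/
noncomputable abbrev pathProj : mappingCocone (𝟙 L) ⟶ L := mappingCocone.fst (𝟙 L)

theorem coconeSnd_δ : δ (-1) 0 (mappingCocone.snd (𝟙 L)) + Cochain.ofHom (pathProj L) = 0 := by
  rw [mappingCocone.snd, Cochain.δ_leftShift _ (-1) (-1) 0 (zero_add _) 1 (by lia), mappingCone.δ_snd]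
  ext p
  simp [pathProj, mappingCocone.fst, mappingCocone,
    Cochain.leftShift_v (n := 1) _ _ _ _ _ p _ (p + -1) (by lia)]

theorem hom_to_cocone_ext {M : CochainComplex A ℤ} {f g : M ⟶ mappingCocone (𝟙 L)}
    (h₁ : f ≫ pathProj L = g ≫ pathProj L)
    (h₂ : (Cochain.ofHom f).comp (mappingCocone.snd (𝟙 L)) (zero_add (-1)) =
      (Cochain.ofHom g).comp (mappingCocone.snd (𝟙 L)) (zero_add (-1))) : f = g := by
  ext p
  rw [← Category.comp_id (f.f p), ← Category.comp_id (g.f p),
    ← mappingCocone.id_X (𝟙 L) p (p + -1) rfl, Preadditive.comp_add, Preadditive.comp_add]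
  have e1 : f.f p ≫ (pathProj L).f p = g.f p ≫ (pathProj L).f p := by
    rw [← HomologicalComplex.comp_f, h₁, HomologicalComplex.comp_f]
  have e2 : f.f p ≫ (mappingCocone.snd (𝟙 L)).v p (p + -1) rfl =
      g.f p ≫ (mappingCocone.snd (𝟙 L)).v p (p + -1) rfl := by
    have := Cochain.congr_v h₂ p (p + -1) rfl
    simpa using this
  rw [← Category.assoc, ← Category.assoc, ← Category.assoc, ← Category.assoc]
  exact congrArg₂ (· + ·) (congrArg (· ≫ _) e1) (congrArg (· ≫ _) e2)

/-- A null homotopy gives a lift to the cocone. -/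
theorem exists_lift_of_homotopy {M : CochainComplex A ℤ} (f : M ⟶ L) (h : Homotopy f 0) :
    ∃ a : M ⟶ mappingCocone (𝟙 L), a ≫ pathProj L = f := by
  obtain ⟨z, hz⟩ := Cochain.equivHomotopy f 0 h
  refine ⟨mappingCocone.lift (𝟙 L) f (-z) ?_, mappingCocone.lift_fst _ _ _ _⟩
  rw [Category.comp_id, δ_neg, hz, Cochain.ofHom_zero, add_zero, neg_add_cancel]

/-- A lift to the cocone gives a null homotopy. -/
theorem homotopy_of_lift {M : CochainComplex A ℤ} (a : M ⟶ mappingCocone (𝟙 L)) :
    Nonempty (Homotopy (a ≫ pathProj L) 0) := by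
  refine ⟨(Cochain.equivHomotopy _ _).symm
    ⟨-(Cochain.ofHom a).comp (mappingCocone.snd (𝟙 L)) (zero_add (-1)), ?_⟩⟩
  rw [δ_neg, δ_ofHom_comp, Cochain.ofHom_zero, add_zero,
    eq_neg_of_add_eq_zero_left (coconeSnd_δ L), Cochain.comp_neg, neg_neg, Cochain.ofHom_comp]

/-- Lifting along a monomorphism, given that maps out of its cokernel are null homotopic. -/
theorem hasLiftingProperty_pathProj (hinj : ∀ n, Injective (L.X n)) {M N : CochainComplex A ℤ}
    (j : M ⟶ N) [Mono j] (hc : ∀ c : cokernel j ⟶ L, Nonempty (Homotopy c 0)) :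
    HasLiftingProperty j (pathProj L) := by
  refine ⟨fun {a b} sq => ?_⟩
  haveI := hinj
  let β₁ : Cochain M L (-1) := (Cochain.ofHom a).comp (mappingCocone.snd (𝟙 L)) (zero_add (-1))
  have hβ₁ : δ (-1) 0 β₁ + (Cochain.ofHom j).comp (Cochain.ofHom b) (zero_add 0) = 0 := by
    rw [δ_ofHom_comp, ← Cochain.ofHom_comp, ← sq.w, Cochain.ofHom_comp, ← Cochain.comp_add, coconeSnd_δ,
      Cochain.comp_zero]
  let β₀ : Cochain N L (-1) := Cochain.mk fun p q hpq => Injective.factorThru (β₁.v p q hpq) (j.f p)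
  have hβ₀ : (Cochain.ofHom j).comp β₀ (zero_add (-1)) = β₁ := by
    ext p q hpq
    simp [β₀, Injective.comp_factorThru]
  let b' : N ⟶ L := b + Cocycle.homOf ⟨δ (-1) 0 β₀, Cocycle.mem_iff 0 1 (zero_add 1) _ |>.2 (δ_δ _ _ _ _)⟩
  have hjb' : j ≫ b' = 0 := by
    apply (Cochain.ofHom_injective)
    simp only [b', Cochain.ofHom_comp, Cochain.ofHom_add, Cocycle.cochain_ofHom_homOf_eq_coe,
      Cochain.comp_add, Cochain.ofHom_zero]
    rw [← δ_ofHom_comp, hβ₀, add_comm]
    exact hβ₁
  obtain ⟨k, hk⟩ := Cochain.equivHomotopy _ _ (hc (cokernel.desc j b' hjb')).some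
  rw [Cochain.ofHom_zero, add_zero] at hk
  let β : Cochain N L (-1) := β₀ - (Cochain.ofHom (cokernel.π j)).comp k (zero_add (-1))
  have hβ : δ (-1) 0 β + Cochain.ofHom (b ≫ 𝟙 L) = 0 := by
    have h1 : Cochain.ofHom b' = Cochain.ofHom b + δ (-1) 0 β₀ := by
      simp only [b', Cochain.ofHom_add, Cocycle.cochain_ofHom_homOf_eq_coe]
    rw [δ_sub, δ_ofHom_comp, ← hk, ← Cochain.ofHom_comp, cokernel.π_desc, h1, Category.comp_id]
    abel
  refine CommSq.HasLift.mk' ⟨mappingCocone.lift (𝟙 L) b β hβ, ?_, mappingCocone.lift_fst _ _ _ _⟩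
  refine hom_to_cocone_ext L (by rw [Category.assoc, mappingCocone.lift_fst, sq.w]) ?_
  rw [Cochain.ofHom_comp, mappingCocone.ofHom_lift, Cochain.comp_assoc_of_first_is_zero_cochain,
    mappingCocone.liftCochain_comp_snd, Cochain.comp_sub, hβ₀,
    ← Cochain.comp_assoc_of_first_is_zero_cochain, ← Cochain.ofHom_comp, cokernel.condition,
    Cochain.ofHom_zero, Cochain.zero_comp, sub_zero]

end Groth.Agent.KInjLocal9
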