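import Groth.Agent.Lib.KInjLocal9.Lift
import Mathlib.CategoryTheory.SmallObject.Basic
import Mathlib.CategoryTheory.Adjunction.Basic

/-!
The right orthogonal of a small family of objects in the derived category of a Grothendieck
abelian category is reflective.
-/

set_option autoImplicit false
set_option linter.unusedSectionVars false
set_option linter.style.haveILetI false
set_option backward.isDefEq.respectTransparency false

universe w v u

open CategoryTheory CategoryTheory.Limits CategoryTheory.Pretriangulated HomologicalComplex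

namespace Groth.Agent.KInjLocal9

open KInjLib

variable {A : Type u} [Category.{v} A] [Abelian A] [IsGrothendieckAbelian.{v} A]
  {T : Type v} (G : T → CochainComplex A ℤ)

/-- The inclusion of `G t` in the cone of its identity, and the generators of K-injectivity. -/
noncomputable def arr : GenIdx A ⊕ T → Arrow (CochainComplex A ℤ) :=
  Sum.elim (fun x => Arrow.mk x.2.1.arrow)
    (fun t => Arrow.mk (CochainComplex.mappingCone.inr (𝟙 (G t))))

/-- The generating cofibrations of the localisation. -/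
def W : MorphismProperty (CochainComplex A ℤ) :=
  MorphismProperty.ofHoms fun i => (arr G i).hom

theorem mono_arr (i : GenIdx A ⊕ T) : Mono (arr G i).hom := by
  rcases i with x | t
  · exact inferInstanceAs (Mono x.2.1.arrow)
  · exact ⟨fun {Z} g h e => HomologicalComplex.hom_ext _ _ fun p => by
      have := congr($(e).f p ≫ (CochainComplex.mappingCone.snd (𝟙 (G t))).v p p (add_zero p))
      simpa [arr] using this⟩

theorem W_le_monomorphisms : W G ≤ MorphismProperty.monomorphisms (CochainComplex A ℤ) := by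
  rintro _ _ _ ⟨i⟩
  exact mono_arr G i

instance : MorphismProperty.IsSmall.{v} (W G) := by
  dsimp [W]
  infer_instance

instance : MorphismProperty.HasSmallObjectArgument.{v} (W G) := by
  obtain ⟨κ, hκ', hκ⟩ := HasCardinalLT.exists_regular_cardinal_forall.{v}
    (fun i : GenIdx A ⊕ T => Subobject (arr G i).left)
  have : Fact κ.IsRegular := ⟨hκ'⟩
  have : Nonempty κ.ord.ToType := by simpa using hκ'.ne_zero
  have := WellFoundedLT.toOrderBot κ.ord.ToType
  exact ⟨κ, inferInstance, inferInstance,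
    { preservesColimit {U V X Y} i hi f hf := by
        let hf' : (MorphismProperty.monomorphisms _).TransfiniteCompositionOfShape κ.ord.ToType f :=
          { toTransfiniteCompositionOfShape := hf.toTransfiniteCompositionOfShape
            map_mem j hj := by
              have := (hf.attachCells j hj).pushouts_coproducts
              simp only [MorphismProperty.ofHoms_homFamily] at this
              refine (?_ : _ ≤ MorphismProperty.monomorphisms _) _ this
              simp only [MorphismProperty.pushouts_le_iff, MorphismProperty.coproducts_le_iff]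
              exact W_le_monomorphisms G }
        have (j j' : κ.ord.ToType) (φ : j ⟶ j') : Mono (hf'.F.map φ) := hf'.mem_map φ
        apply IsGrothendieckAbelian.preservesColimit_coyoneda_obj_of_mono (Y := hf'.F) (κ := κ)
        obtain ⟨x⟩ := hi
        exact hκ x }⟩

theorem homotopy_of_factor_cone {M L : CochainComplex A ℤ}
    (a : M ⟶ L) (s : CochainComplex.mappingCone (𝟙 M) ⟶ L)
    (hs : CochainComplex.mappingCone.inr (𝟙 M) ≫ s = a) : Nonempty (Homotopy a 0) :=
  ⟨(Homotopy.ofEq (by simp [hs])).trans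
    ((((CochainComplex.mappingCone.homotopyToZeroOfId M).compLeft
      (CochainComplex.mappingCone.inr (𝟙 M))).compRight s).trans (Homotopy.ofEq (by simp)))⟩

theorem exists_factor_cone {M L : CochainComplex A ℤ} (a : M ⟶ L) (h : Homotopy a 0) :
    ∃ s : CochainComplex.mappingCone (𝟙 M) ⟶ L, CochainComplex.mappingCone.inr (𝟙 M) ≫ s = a := by
  obtain ⟨z, hz⟩ := CochainComplex.HomComplex.Cochain.equivHomotopy _ _ h
  exact ⟨CochainComplex.mappingCone.desc (𝟙 M) z a (by simp [hz]), CochainComplex.mappingCone.inr_desc ..⟩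

variable [HasDerivedCategory.{w} A]

/-- A fibrant local object. -/
structure Fib (L : CochainComplex A ℤ) : Prop where
  kinj : L.IsKInjective
  inj : ∀ n, Injective (L.X n)
  orth : ∀ t (a : G t ⟶ L), Nonempty (Homotopy a 0)
  orth₁ : ∀ t (a : cokernel (CochainComplex.mappingCone.inr (𝟙 (G t))) ⟶ L), Nonempty (Homotopy a 0)

theorem rlp_pathProj {L : CochainComplex A ℤ} (hL : Fib G L) : (W G).rlp (pathProj L) := by
  rintro _ _ _ ⟨i⟩
  haveI := mono_arr G i
  refine hasLiftingProperty_pathProj L hL.inj _ ?_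
  rcases i with x | t
  · intro c
    exact hL.kinj.nonempty_homotopy_zero c x.2.2
  · exact hL.orth₁ t

theorem rlp_toZero {L Z : CochainComplex A ℤ} (p : L ⟶ Z) (hZ : IsZero Z) (hL : Fib G L) :
    (W G).rlp p := by
  haveI := hL.kinj
  rintro _ _ _ ⟨i⟩
  refine ⟨fun {a b} _ => ?_⟩
  rcases i with x | t
  · obtain ⟨l, hl⟩ := extends_of_isKInjective L hL.inj x.2.1.arrow x.2.2 a
    exact CommSq.HasLift.mk' ⟨l, hl, hZ.eq_of_tgt _ _⟩
  · obtain ⟨l, hl⟩ := exists_factor_cone a (hL.orth t a).some
    exact CommSq.HasLift.mk' ⟨l, hl, hZ.eq_of_tgt _ _⟩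

open ZeroObject in
/-- Every complex maps universally to a local one. -/
theorem exists_universal (M : CochainComplex A ℤ) :
    ∃ (I : CochainComplex A ℤ) (η : M ⟶ I), I.IsKInjective ∧
      (∀ t (a : G t ⟶ I), Nonempty (Homotopy a 0)) ∧
      ∀ L, Fib G L → (∀ φ : M ⟶ L, ∃ ψ : I ⟶ L, η ≫ ψ = φ) ∧
        (∀ ψ : I ⟶ L, Homotopy (η ≫ ψ) 0 → Nonempty (Homotopy ψ 0)) := by
  let d := MorphismProperty.functorialFactorizationData (W G).rlp.llp (W G).rlp
  let X : Arrow (CochainComplex A ℤ) := Arrow.mk (0 : M ⟶ 0)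
  have hp : (W G).rlp (d.p.app X) := d.hp _
  have hZ : IsZero X.right := isZero_zero _
  have hlift : ∀ i (a : (arr G i).left ⟶ d.Z.obj X),
      ∃ s : (arr G i).right ⟶ d.Z.obj X, (arr G i).hom ≫ s = a := fun i a => by
    haveI := hp (arr G i).hom (MorphismProperty.ofHoms.mk i)
    have sq : CommSq a (arr G i).hom (d.p.app X) 0 := ⟨hZ.eq_of_tgt _ _⟩
    exact ⟨sq.lift, sq.fac_left⟩
  refine ⟨d.Z.obj X, d.i.app X, ?_, fun t a => ?_, fun L hL => ⟨fun φ => ?_, fun ψ hψ => ?_⟩⟩
  · exact (extends_of_generators fun x a => hlift (Sum.inl x) a).isKInjective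
  · obtain ⟨s, hs⟩ := hlift (Sum.inr t) a
    exact homotopy_of_factor_cone a s hs
  · haveI := d.hi X (0 : L ⟶ (0 : CochainComplex A ℤ)) (rlp_toZero G _ (isZero_zero _) hL)
    have sq : CommSq φ (d.i.app X) (0 : L ⟶ (0 : CochainComplex A ℤ)) 0 :=
      ⟨(isZero_zero _).eq_of_tgt _ _⟩
    exact ⟨sq.lift, sq.fac_left⟩
  · obtain ⟨a, ha⟩ := exists_lift_of_homotopy L _ hψ
    haveI := d.hi X (pathProj L) (rlp_pathProj G hL)
    have sq : CommSq a (d.i.app X) (pathProj L) ψ := ⟨ha⟩
    obtain ⟨h⟩ := homotopy_of_lift L sq.lift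
    exact ⟨(Homotopy.ofEq sq.fac_right.symm).trans h⟩

theorem subsingleton_hom_Q {X L : CochainComplex A ℤ} [L.IsKInjective]
    (h : ∀ a : X ⟶ L, Nonempty (Homotopy a 0)) :
    Subsingleton (DerivedCategory.Q.obj X ⟶ DerivedCategory.Q.obj L) := by
  refine ⟨fun f g => ?_⟩
  obtain ⟨φ, rfl⟩ := KInjLib.exists_map_eq f
  obtain ⟨ψ, rfl⟩ := KInjLib.exists_map_eq g
  exact (KInjLib.map_eq_iff φ ψ).2 ⟨(h φ).some.trans (h ψ).some.symm⟩

omit G in
variable {ι : Type v} (X : ι → DerivedCategory A) in
/-- Objects receiving only zero maps from all shifts of the `X i`. -/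
def Orth : ObjectProperty (DerivedCategory A) :=
  fun Y => ∀ i (n : ℤ), Subsingleton ((X i)⟦n⟧ ⟶ Y)

theorem exists_reflection {ι : Type v} (X : ι → DerivedCategory A) (M : DerivedCategory A) :
    ∃ (R : DerivedCategory A) (η : M ⟶ R), Orth X R ∧
      ∀ Y, Orth X Y → Function.Bijective fun g : R ⟶ Y => η ≫ g := by
  let T := ULift.{v} ℤ
  let G : ι × T → CochainComplex A ℤ := fun t => DerivedCategory.Q.objPreimage ((X t.1)⟦t.2.down⟧)
  let eG : ∀ t, DerivedCategory.Q.obj (G t) ≅ (X t.1)⟦t.2.down⟧ :=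
    fun t => DerivedCategory.Q.objObjPreimageIso _
  let C := DerivedCategory.Q.objPreimage M
  let eC : DerivedCategory.Q.obj C ≅ M := DerivedCategory.Q.objObjPreimageIso M
  obtain ⟨I, η, hI, hIo, huniv⟩ := exists_universal G C
  have hR : Orth X (DerivedCategory.Q.obj I) := fun i n => by
    haveI := subsingleton_hom_Q (hIo (i, ⟨n⟩))
    exact (Equiv.subsingleton_congr (Iso.homCongr (eG (i, ⟨n⟩)) (Iso.refl _))).1 this
  refine ⟨DerivedCategory.Q.obj I, eC.inv ≫ DerivedCategory.Q.map η, hR, fun Y hY => ?_⟩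
  obtain ⟨L, f, hL, hf, -, hinj⟩ := KInjLib.exists_resolution (DerivedCategory.Q.objPreimage Y)
  let e : Y ≅ DerivedCategory.Q.obj L :=
    (DerivedCategory.Q.objObjPreimageIso Y).symm ≪≫ asIso (DerivedCategory.Q.map f)
  have hfib : Fib G L := by
    refine ⟨hL, hinj, fun t a => ?_, fun t c => ?_⟩
    · haveI := hY t.1 t.2.down
      haveI := (Equiv.subsingleton_congr (Iso.homCongr (eG t) e.symm)).2 this
      exact (KInjLib.map_eq_iff a 0).1 (Subsingleton.elim _ _)
    · haveI : Mono (CochainComplex.mappingCone.inr (𝟙 (G t))) := mono_arr G (Sum.inr t)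
      let j := CochainComplex.mappingCone.inr (𝟙 (G t))
      have hS : (ShortComplex.mk j (cokernel.π j) (cokernel.condition j)).ShortExact :=
        { exact := ShortComplex.exact_of_g_is_cokernel _ (cokernelIsCokernel j) }
      have h0 : DerivedCategory.Q.map (cokernel.π j ≫ c) = 0 := by
        rw [← DerivedCategory.Q.map_zero, KInjLib.map_eq_iff]
        exact ⟨(Homotopy.ofEq (Category.id_comp _).symm).trans
          (((CochainComplex.mappingCone.homotopyToZeroOfId (G t)).compRight (cokernel.π j ≫ c)).trans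
            (Homotopy.ofEq (by simp)))⟩
      obtain ⟨g, hg⟩ := Triangle.yoneda_exact₃ _ (DerivedCategory.triangleOfSES_distinguished hS)
        (DerivedCategory.Q.map c) (by
          change DerivedCategory.Q.map (cokernel.π j) ≫ _ = 0
          rw [← Functor.map_comp, h0])
      haveI := hY t.1 (t.2.down + 1)
      haveI := (Equiv.subsingleton_congr (Iso.homCongr ((shiftFunctor _ (1 : ℤ)).mapIso (eG t) ≪≫
        ((shiftFunctorAdd (DerivedCategory A) t.2.down 1).app _).symm) e.symm)).2 this
      refine (KInjLib.map_eq_iff c 0).1 ?_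
      rw [hg, show g = 0 from Subsingleton.elim (α := (DerivedCategory.Q.obj (G t))⟦(1 : ℤ)⟧ ⟶ _) _ _,
        comp_zero, Functor.map_zero]
  haveI := hL
  obtain ⟨h₁, h₂⟩ := huniv L hfib
  refine ⟨fun g g' hgg => ?_, fun φ => ?_⟩
  · rw [← sub_eq_zero, ← cancel_mono e.hom, zero_comp]
    obtain ⟨ψ, hψ⟩ := KInjLib.exists_map_eq ((g - g') ≫ e.hom)
    rw [← hψ, ← DerivedCategory.Q.map_zero, KInjLib.map_eq_iff]
    refine h₂ ψ ((KInjLib.map_eq_iff _ _).1 ?_).some
    rw [Functor.map_comp, hψ, Functor.map_zero, ← cancel_epi eC.inv, comp_zero, Preadditive.sub_comp,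
      Preadditive.comp_sub, Preadditive.comp_sub, sub_eq_zero]
    simp only [← Category.assoc]
    exact congrArg (· ≫ e.hom) hgg
  · obtain ⟨φ', hφ'⟩ := KInjLib.exists_map_eq (eC.hom ≫ φ ≫ e.hom)
    obtain ⟨ψ, hψ⟩ := h₁ φ'
    refine ⟨DerivedCategory.Q.map ψ ≫ e.inv, ?_⟩
    dsimp only
    rw [Category.assoc, ← Category.assoc (DerivedCategory.Q.map η), ← Functor.map_comp, hψ, hφ']
    simp

/-- The right orthogonal of a small family is reflective. -/
theorem isRightAdjoint_ι {ι : Type v} (X : ι → DerivedCategory A) : (Orth X).ι.IsRightAdjoint := by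
  choose R η hR hη using exists_reflection X
  let e : ∀ M (Y : (Orth X).FullSubcategory),
      ((⟨R M, hR M⟩ : (Orth X).FullSubcategory) ⟶ Y) ≃ (M ⟶ (Orth X).ι.obj Y) := fun M Y =>
    ((Orth X).fullyFaithfulι.homEquiv).trans (Equiv.ofBijective _ (hη M Y.obj Y.property))
  exact (Adjunction.adjunctionOfEquivLeft e fun M Y Y' g h => (Category.assoc _ _ _).symm).isRightAdjoint

end Groth.Agent.KInjLocal9
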